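import Groth.Agent.EGA43.ConnFlat.Main
import Groth.Agent.EGA43.ConnCount.ComplNowhereDense
import Groth.Agent.CAlgH3.KrullFamily
import Groth.Agent.EGA43.UnibranchFibre.ComplFlat

/-!
# Complements of closed sets over the closed point of a geometrically unibranch base of dimension ≥ 2

An idempotent of the generic fibre which is defined outside the closed fibre is defined over the
normalisation: the latter is cut out by valuation rings centred at primes other than the maximal one.
-/

set_option autoImplicit false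
set_option backward.isDefEq.respectTransparency false
set_option linter.style.haveILetI false

universe u

open TensorProduct CategoryTheory AlgebraicGeometry IsLocalRing TopologicalSpace

namespace Groth.Agent.EGA43.ConnPunctured

open Groth.Agent

/-- Elements of the fraction field which a power of every element of the maximal ideal brings into a local
Krull domain of dimension at least two lie in it. -/
theorem mem_of_forall_pow_mul_mem {A₀ K : Type u} [CommRing A₀] [IsDomain A₀] [IsLocalRing A₀] [IsNoetherianRing A₀]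
    [Field K] [Algebra A₀ K] [IsFractionRing A₀ K] [IsLocalRing (integralClosure A₀ K)]
    (hdim : 2 ≤ ringKrullDim A₀) (s : Finset A₀) (hs : Ideal.span (s : Set A₀) = maximalIdeal A₀) (x : K)
    (hx : ∀ f ∈ s, ∃ n : ℕ, algebraMap A₀ K f ^ n * x ∈ integralClosure A₀ K) : x ∈ integralClosure A₀ K := by
  classical
  let R := integralClosure A₀ K
  obtain ⟨𝒲, -, h𝒲, -, -⟩ := CAlgH3.Mori.exists_family A₀ K
  by_contra hx'
  obtain ⟨W, hW, hxW, hess⟩ := h𝒲.exists_essential (x := x) hx'
  have hle : ∀ r : R, W.valuation (r : K) ≤ 1 := fun r => h𝒲.le hW r.2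
  let P := CAlgH3.Mori.centre R W fun r hr => hle ⟨r, hr⟩
  haveI : P.IsPrime := CAlgH3.Mori.centre_isPrime R W fun r hr => hle ⟨r, hr⟩
  -- the centre lies over the maximal ideal
  have hmem : ∀ a ∈ maximalIdeal A₀, algebraMap A₀ R a ∈ P := by
    have : Ideal.span (s : Set A₀) ≤ P.comap (algebraMap A₀ R) := by
      refine Ideal.span_le.2 fun f hf => ?_
      by_contra hfP
      obtain ⟨n, hn⟩ := hx f hf
      have hv : W.valuation (algebraMap A₀ K f) = 1 :=
        le_antisymm (hle (algebraMap A₀ R f)) (not_lt.1 hfP)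
      refine hxW ((W.valuation_le_one_iff x).1 ?_)
      have h2 := hle ⟨_, hn⟩
      rw [map_mul, map_pow, hv, one_pow, one_mul] at h2
      exact h2
    rw [hs] at this
    exact this
  have hPm : P = maximalIdeal R := by
    refine IsLocalRing.eq_maximalIdeal (Ideal.isMaximal_of_isIntegral_of_isMaximal_comap (R := A₀) P ?_)
    have : P.comap (algebraMap A₀ R) = maximalIdeal A₀ :=
      le_antisymm (IsLocalRing.le_maximalIdeal (Ideal.IsPrime.ne_top (Ideal.comap_isPrime _ _))) hmem
    rw [this]; infer_instance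
  -- hence `R` is the valuation ring
  have hWR : ∀ z, z ∈ W → z ∈ R := by
    intro z hz
    obtain ⟨t, ht, htv, htz⟩ := hess z hz
    have hu : IsUnit (⟨t, ht⟩ : R) := by
      by_contra hu
      have : (⟨t, ht⟩ : R) ∈ P := hPm ▸ hu
      exact (ne_of_lt (show W.valuation t < 1 from this)) htv
    obtain ⟨u, hu'⟩ := hu.exists_left_inv
    have h1 : ((u : K)) * t = 1 := congrArg Subtype.val hu'
    have : z = (u : K) * (t * z) := by rw [← mul_assoc, h1, one_mul]
    rw [this]
    exact R.mul_mem u.2 htz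
  let ι : R →+* W := (algebraMap R K).codRestrict W.toSubring fun r => (h𝒲.mem_iff (r : K)).1 r.2 W hW
  have hι : Function.Bijective ι :=
    ⟨fun a b h => Subtype.ext (congrArg (fun w : W => (w : K)) h), fun z => ⟨⟨z, hWR z z.2⟩, rfl⟩⟩
  haveI := h𝒲.dvr W hW
  haveI : IsPrincipalIdealRing R :=
    IsPrincipalIdealRing.of_surjective (RingEquiv.ofBijective ι hι).symm.toRingHom (RingEquiv.ofBijective ι hι).symm.surjective
  have h1 : ∀ p : PrimeSpectrum A₀, p.asIdeal = ⊥ ∨ p.asIdeal = maximalIdeal A₀ := by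
    intro p
    have hinj : Function.Injective (algebraMap A₀ R) := fun a b h =>
      IsFractionRing.injective A₀ K (congrArg Subtype.val h)
    obtain ⟨Q, -, hQp, hQ⟩ := Ideal.exists_ideal_over_prime_of_isIntegral p.asIdeal (⊥ : Ideal R)
      (((RingHom.injective_iff_ker_eq_bot _).1 hinj).le.trans bot_le)
    by_cases hQ0 : Q = ⊥
    · left
      rw [← hQ, hQ0]
      exact (RingHom.injective_iff_ker_eq_bot _).1 hinj
    · right
      haveI := IsPrime.to_maximal_ideal hQ0
      rw [← hQ]
      exact IsLocalRing.eq_maximalIdeal (Ideal.isMaximal_comap_of_isIntegral_of_isMaximal (R := A₀) Q)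
  have h2 : ringKrullDim A₀ ≤ 1 := Order.krullDim_le_one_iff.2 fun p => by
    rcases h1 p with hp | hp
    · exact Or.inl fun q _ => show p.asIdeal ≤ q.asIdeal by rw [hp]; exact bot_le
    · exact Or.inr fun q _ => show q.asIdeal ≤ p.asIdeal by rw [hp]; exact IsLocalRing.le_maximalIdeal q.2.ne_top
  exact absurd (hdim.trans h2) (by decide)

theorem idempotent_trivial (A B : Type u) [CommRing A] [IsLocalRing A] [IsNoetherianRing A] [IsDomain A]
    [CommRing B] [IsLocalRing B] [Algebra A B] [IsLocalHom (algebraMap A B)] [Module.Flat A B]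
    (hA : CAlg2.IsGeomUnibranch A) (hdim : 2 ≤ ringKrullDim A)
    {e : FractionRing (CAlg2.red A) ⊗[A] B} (he : IsIdempotentElem e)
    (hext : ∀ f ∈ maximalIdeal A, f ≠ 0 → ∃ (n : ℕ) (b : B),
      algebraMap A (FractionRing (CAlg2.red A)) f ^ n • e = (1 : FractionRing (CAlg2.red A)) ⊗ₜ[A] b) :
    e = 0 ∨ e = 1 := by
  classical
  let A₀ := CAlg2.red A
  let K := FractionRing A₀
  haveI : IsDomain A₀ := hA.1.1
  haveI : IsLocalRing (CAlg2.normRed A) := hA.1.2
  haveI : Nontrivial A₀ := inferInstance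
  haveI : IsLocalRing A₀ := IsLocalRing.of_surjective' (Ideal.Quotient.mk _) Ideal.Quotient.mk_surjective
  haveI : IsNoetherianRing A₀ := inferInstanceAs (IsNoetherianRing (A ⧸ nilradical A))
  let A' := integralClosure A₀ K
  haveI : IsLocalRing (↥A') := hA.1.2
  let π : A ≃+* A₀ := RingEquiv.ofBijective (Ideal.Quotient.mk (nilradical A))
    ⟨fun a b h => sub_eq_zero.1 (by
      have := Ideal.Quotient.eq.1 h
      rwa [nilradical_eq_zero, Ideal.zero_eq_bot, Ideal.mem_bot] at this), Ideal.Quotient.mk_surjective⟩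
  have hdim₀ : 2 ≤ ringKrullDim A₀ := ringKrullDim_eq_of_ringEquiv π ▸ hdim
  have hK : ∀ a : A, a ≠ 0 → algebraMap A K a ≠ 0 := fun a ha => by
    rw [IsScalarTower.algebraMap_apply A A₀ K]
    exact (map_ne_zero_iff _ (IsFractionRing.injective A₀ K)).2 ((map_ne_zero_iff π π.injective).2 ha)
  let N : A → Submodule A K := fun f =>
    { carrier := {x | ∃ n : ℕ, algebraMap A K f ^ n * x ∈ A'}
      add_mem' := fun {x y} ⟨n, hn⟩ ⟨m, hm⟩ => ⟨n + m, by
        rw [show algebraMap A K f ^ (n + m) * (x + y) = algebraMap A K (f ^ m) * (algebraMap A K f ^ n * x) +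
          algebraMap A K (f ^ n) * (algebraMap A K f ^ m * y) by rw [map_pow, map_pow]; ring]
        exact A'.add_mem (A'.mul_mem (A'.algebraMap_mem (Ideal.Quotient.mk _ _)) hn)
          (A'.mul_mem (A'.algebraMap_mem (Ideal.Quotient.mk _ _)) hm)⟩
      zero_mem' := ⟨0, by simp⟩
      smul_mem' := fun c x ⟨n, hn⟩ => ⟨n, by
        rw [Algebra.smul_def, mul_left_comm]
        exact A'.mul_mem (A'.algebraMap_mem (Ideal.Quotient.mk _ _)) hn⟩ }
  obtain ⟨t, ht⟩ := IsNoetherian.noetherian (maximalIdeal A)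
  have htm : ∀ f ∈ t, f ∈ maximalIdeal A := fun f hf => ht ▸ Submodule.subset_span hf
  obtain ⟨f₀, hf₀, hf₀0⟩ : ∃ f ∈ t, f ≠ 0 := by
    by_contra! h
    have hm : maximalIdeal A = ⊥ := ht ▸ Submodule.span_eq_bot.2 h
    have : IsField A := IsLocalRing.isField_iff_maximalIdeal_eq.2 hm
    rw [ringKrullDim_eq_zero_of_isField this] at hdim
    exact absurd hdim (by decide)
  have hNe : ∀ f ∈ maximalIdeal A, f ≠ 0 → e ∈ LinearMap.range ((N f).subtype.rTensor B) := by
    intro f hf hf0
    obtain ⟨n, b, hb⟩ := hext f hf hf0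
    have hu : algebraMap A K f ^ n ≠ 0 := pow_ne_zero _ (hK f hf0)
    refine ⟨(⟨(algebraMap A K f ^ n)⁻¹, ⟨n, by rw [mul_inv_cancel₀ hu]; exact A'.one_mem⟩⟩ : N f) ⊗ₜ b, ?_⟩
    rw [LinearMap.rTensor_tmul, Submodule.subtype_apply]
    refine (smul_right_injective (K ⊗[A] B) hu) ?_
    show algebraMap A K f ^ n • ((algebraMap A K f ^ n)⁻¹ ⊗ₜ[A] b) = algebraMap A K f ^ n • e
    rw [hb, smul_tmul', smul_eq_mul, mul_inv_cancel₀ hu]
  have hle : N f₀ ⊓ (t.filter (· ≠ 0)).inf N ≤ LinearMap.range (IsScalarTower.toAlgHom A (↥A') K).toLinearMap := by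
    rintro x ⟨hx₀, hxF⟩
    refine ⟨⟨x, mem_of_forall_pow_mul_mem hdim₀ ((t.filter (· ≠ 0)).image π) ?_ x ?_⟩, rfl⟩
    · have hmap : Ideal.map π.toRingHom (maximalIdeal A) = maximalIdeal A₀ :=
        IsLocalRing.eq_maximalIdeal (Ideal.map_isMaximal_of_equiv π)
      rw [← hmap, ← ht, Ideal.map_span, Finset.coe_image, Finset.coe_filter]
      refine le_antisymm (Ideal.span_mono (Set.image_mono fun y hy => hy.1)) (Ideal.span_le.2 ?_)
      rintro _ ⟨y, hy, rfl⟩
      by_cases hy0 : y = 0
      · rw [hy0, map_zero]; exact zero_mem _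
      · exact Ideal.subset_span ⟨y, ⟨hy, hy0⟩, rfl⟩
    · intro g hg
      obtain ⟨f, hf, rfl⟩ := Finset.mem_image.1 hg
      obtain ⟨n, hn⟩ := (Finset.inf_le (f := N) hf) hxF
      exact ⟨n, hn⟩
  obtain ⟨e', he'⟩ : ∃ e', (Algebra.TensorProduct.map (IsScalarTower.toAlgHom A (↥A') K) (AlgHom.id A B)) e' = e := by
    obtain ⟨z, hz⟩ := ConnFlat.range_rTensor_mono hle (ConnFlat.mem_range_finset_inf _ (t.filter (· ≠ 0)) N
      (hNe f₀ (htm f₀ hf₀) hf₀0) fun f hf => hNe f (htm f (Finset.mem_filter.1 hf).1) (Finset.mem_filter.1 hf).2)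
    obtain ⟨z', rfl⟩ := LinearMap.rTensor_surjective B
      (IsScalarTower.toAlgHom A (↥A') K).toLinearMap.surjective_rangeRestrict z
    refine ⟨z', ?_⟩
    rw [← hz, ← LinearMap.rTensor_comp_apply]
    rfl
  have he'i : IsIdempotentElem e' := by
    refine ConnFlat.idem_of_injective ?_ ?_ (f := Algebra.TensorProduct.map (IsScalarTower.toAlgHom A (↥A') K) (AlgHom.id A B))
    · exact ConnFlat.injective_map_id (IsScalarTower.toAlgHom A (↥A') K) (fun a b h => Subtype.ext h)
    · rw [he']; exact he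
  rw [← he']
  suffices e' = 0 ∨ e' = 1 from this.imp (fun h => by rw [h, map_zero]) (fun h => by rw [h, map_one])
  haveI : Algebra.IsIntegral A A₀ := Algebra.IsIntegral.of_finite A A₀
  haveI : Algebra.IsIntegral A (↥A') := Algebra.IsIntegral.trans A₀
  let m' : Ideal (CAlg2.normRed A) := IsLocalRing.maximalIdeal (CAlg2.normRed A)
  refine ConnFlat.idempotent_trivial_of_isLocal (ringExpChar (CAlg2.normRed A ⧸ m'))
    (by letI := Ideal.Quotient.field m'; exact inferInstanceAs (ExpChar (CAlg2.normRed A ⧸ m') _)) (fun x => ?_) he'i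
  obtain ⟨n, c, hc⟩ := hA.2 m' (Ideal.Quotient.mk _ x)
  refine ⟨n, c, ?_⟩
  show (x : CAlg2.normRed A) ^ _ - _ ∈ m'
  rw [← Ideal.Quotient.eq, map_pow]
  exact hc.symm

theorem isConnected_compl_closedFibre (A B : Type u) [CommRing A] [IsLocalRing A] [IsNoetherianRing A] [IsDomain A]
    [CommRing B] [IsLocalRing B] [Algebra A B] [IsLocalHom (algebraMap A B)] [Module.Flat A B]
    (hA : CAlg2.IsGeomUnibranch A) (hdim : 2 ≤ ringKrullDim A) :
    _root_.IsConnected ({closedPoint B}ᶜ : Set (PrimeSpectrum B)) := by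
  classical
  haveI : IsDomain (CAlg2.red A) := hA.1.1
  let K := FractionRing (CAlg2.red A)
  let φ : B →ₐ[A] K ⊗[A] B := Algebra.TensorProduct.includeRight
  have hmk : ∀ a : A, algebraMap A K a = 0 ↔ a = 0 := fun a => by
    rw [IsScalarTower.algebraMap_apply A (CAlg2.red A) K, IsFractionRing.to_map_eq_zero_iff,
      Ideal.Quotient.algebraMap_eq, Ideal.Quotient.eq_zero_iff_mem, nilradical_eq_zero, Ideal.zero_eq_bot, Ideal.mem_bot]
  have hmax : maximalIdeal A ≠ ⊥ := fun h => by
    rw [ringKrullDim_eq_zero_of_isField (IsLocalRing.isField_iff_maximalIdeal_eq.2 h)] at hdim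
    exact absurd hdim (by decide)
  let U : Set (PrimeSpectrum B) := {q | ¬ maximalIdeal A ≤ q.asIdeal.comap (algebraMap A B)}
  let S := Set.range (PrimeSpectrum.comap φ.toRingHom)
  have hSU : S ⊆ U := by
    rintro _ ⟨P, rfl⟩ h
    obtain ⟨a, ha, ha0⟩ := Submodule.exists_mem_ne_zero_of_ne_bot hmax
    have hP : φ (algebraMap A B a) ∈ P.asIdeal := h ha
    rw [φ.commutes, IsScalarTower.algebraMap_apply A K (K ⊗[A] B)] at hP
    exact P.2.ne_top (Ideal.eq_top_of_isUnit_mem _ hP ((Ne.isUnit ((hmk a).not.2 ha0)).map _))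
  have hgen : ∀ q : PrimeSpectrum B, ∃ s ∈ S, s ⤳ q := by
    intro q
    haveI : (⊥ : Ideal A).IsPrime := Ideal.isPrime_bot
    haveI : q.asIdeal.LiesOver (q.asIdeal.under A) := ⟨rfl⟩
    obtain ⟨Q', hle, hQ'p, hlo⟩ := Ideal.exists_ideal_le_liesOver_of_le (p := (⊥ : Ideal A)) (q := q.asIdeal.under A)
      q.asIdeal bot_le
    refine ⟨⟨Q', hQ'p⟩, ?_, (PrimeSpectrum.le_iff_specializes _ _).1 hle⟩
    let L := Q'.ResidueField
    have hAL : ∀ a : A, algebraMap A L a = 0 → a = 0 := fun a ha => by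
      rw [IsScalarTower.algebraMap_apply A B L, Ideal.algebraMap_residueField_eq_zero] at ha
      have : a ∈ (⊥ : Ideal A) := by rw [hlo.over]; exact ha
      simpa using this
    let j : CAlg2.red A →+* L := Ideal.Quotient.lift (nilradical A) (algebraMap A L) fun x hx => by
      rw [nilradical_eq_zero, Ideal.zero_eq_bot, Ideal.mem_bot] at hx
      rw [hx, map_zero]
    have hj : Function.Injective j := (injective_iff_map_eq_zero _).2 fun z hz => by
      obtain ⟨x, rfl⟩ := Ideal.Quotient.mk_surjective z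
      rw [hAL x hz, map_zero]
    let l : K →ₐ[A] L := { IsFractionRing.lift hj with
      commutes' := fun x => by
        show IsFractionRing.lift hj (algebraMap (CAlg2.red A) K (Ideal.Quotient.mk _ x)) = _
        rw [IsFractionRing.lift_algebraMap]; rfl }
    let Φ : K ⊗[A] B →ₐ[A] L := Algebra.TensorProduct.lift l (IsScalarTower.toAlgHom A B L) fun _ _ => Commute.all _ _
    refine ⟨⟨RingHom.ker Φ.toRingHom, RingHom.ker_isPrime _⟩, PrimeSpectrum.ext (Ideal.ext fun x => ?_)⟩
    show Φ ((1 : K) ⊗ₜ[A] x) = 0 ↔ x ∈ Q'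
    rw [Algebra.TensorProduct.lift_tmul, map_one, one_mul]
    exact Ideal.algebraMap_residueField_eq_zero
  have hUne : Nonempty ↥U := (hgen (closedPoint B)).elim fun s h => ⟨⟨s, hSU h.1⟩⟩
  have hU : _root_.IsConnected U := by
    rw [isConnected_iff_connectedSpace]
    refine connectedSpace_iff_clopen.2 ⟨hUne, fun D hD => ?_⟩
    let cS : PrimeSpectrum (K ⊗[A] B) → ↥U := fun P => ⟨PrimeSpectrum.comap φ.toRingHom P, hSU ⟨P, rfl⟩⟩
    obtain ⟨e, he, heD⟩ := PrimeSpectrum.isClopen_iff.1
      (hD.preimage (f := cS) ((PrimeSpectrum.continuous_comap _).subtype_mk _))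
    have hext : ∀ f ∈ maximalIdeal A, f ≠ 0 → ∃ (n : ℕ) (b : B), algebraMap A K f ^ n • e = (1 : K) ⊗ₜ[A] b := by
      intro f hf hf0
      let Bf := Localization.Away (algebraMap A B f)
      let cf : PrimeSpectrum Bf → ↥U := fun P => ⟨PrimeSpectrum.comap (algebraMap B Bf) P, fun h =>
        P.2.ne_top (Ideal.eq_top_of_isUnit_mem _ (h hf : algebraMap B Bf (algebraMap A B f) ∈ P.asIdeal)
          (IsLocalization.Away.algebraMap_isUnit _))⟩
      obtain ⟨ef, hef, hefD⟩ := PrimeSpectrum.isClopen_iff.1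
        (hD.preimage (f := cf) ((PrimeSpectrum.continuous_comap _).subtype_mk _))
      have hu : IsUnit (φ.toRingHom (algebraMap A B f)) := by
        show IsUnit (φ (algebraMap A B f))
        rw [φ.commutes, IsScalarTower.algebraMap_apply A K (K ⊗[A] B)]
        exact (Ne.isUnit ((hmk f).not.2 hf0)).map _
      let j : Bf →+* K ⊗[A] B := IsLocalization.Away.lift _ hu
      have hje : j ef = e := by
        refine PrimeSpectrum.basicOpen_injOn_isIdempotentElem (hef.map j) he (Opens.ext ?_)
        rw [← heD]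
        ext P
        have hc : cS P = cf (PrimeSpectrum.comap j P) := Subtype.ext (by
          show _ = PrimeSpectrum.comap _ (PrimeSpectrum.comap j P)
          rw [← PrimeSpectrum.comap_comp_apply, IsLocalization.Away.lift_comp])
        show j ef ∉ P.asIdeal ↔ cS P ∈ D
        rw [hc]
        exact (Set.ext_iff.1 hefD (PrimeSpectrum.comap j P)).symm
      obtain ⟨n, b, hnb⟩ := IsLocalization.Away.surj (algebraMap A B f) ef
      refine ⟨n, b, ?_⟩
      have h := congrArg j hnb
      rw [map_mul, map_pow, IsLocalization.Away.lift_eq, IsLocalization.Away.lift_eq, hje] at h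
      refine (Algebra.smul_def (A := K ⊗[A] B) (algebraMap A K f ^ n) e).trans ?_
      rw [map_pow, ← IsScalarTower.algebraMap_apply A K (K ⊗[A] B), ← φ.commutes, mul_comm]
      exact h
    have key : ∀ q : ↥U, ∃ P, cS P ⤳ q := fun q => by
      obtain ⟨_, ⟨P, rfl⟩, hs⟩ := hgen q.1
      exact ⟨P, (subtype_specializes_iff _ _).2 hs⟩
    rcases idempotent_trivial A B hA hdim he hext with rfl | rfl
    · left
      refine Set.eq_empty_iff_forall_notMem.2 fun q hq => ?_
      obtain ⟨P, hP⟩ := key q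
      have : P ∈ cS ⁻¹' D := hP.mem_open hD.2 hq
      rw [heD] at this
      simp at this
    · right
      refine Set.eq_univ_iff_forall.2 fun q => ?_
      obtain ⟨P, hP⟩ := key q
      refine hP.mem_closed hD.1 (?_ : P ∈ cS ⁻¹' D)
      rw [heD]
      simp
  refine hU.subset_closure (fun q hq h => hq ?_) fun q _ => ?_
  · rw [Set.mem_singleton_iff.1 h]
    exact (IsLocalRing.maximalIdeal_comap (f := algebraMap A B)).ge
  · obtain ⟨s, hs, hsq⟩ := hgen q
    exact closure_mono (Set.singleton_subset_iff.2 (hSU hs)) hsq.mem_closure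

theorem isConnected_compl_of_over_closedPoint (A : Type u) [CommRing A]
    [IsNoetherianRing A] [IsLocalRing A] [IsDomain A] (hA : CAlg2.IsGeomUnibranch A) (hdim : 2 ≤ ringKrullDim A)
    {X : Scheme.{u}} [IsLocallyNoetherian X] [ConnectedSpace ↥X] (f : X ⟶ Spec (CommRingCat.of A)) [Flat f]
    (T : Set ↥X) (hT : IsClosed T) (hTy : ∀ x ∈ T, f.base x = closedPoint A) :
    _root_.IsConnected Tᶜ := by
  let η : ↥(Spec (CommRingCat.of A)) := (⟨⊥, Ideal.isPrime_bot⟩ : PrimeSpectrum A)
  have hη : η ≠ closedPoint A := fun h => by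
    rw [ringKrullDim_eq_zero_of_isField (IsLocalRing.isField_iff_maximalIdeal_eq.2
      (congrArg PrimeSpectrum.asIdeal h : (⊥ : Ideal A) = maximalIdeal A).symm)] at hdim
    exact absurd hdim (by decide)
  have hn : IsNowhereDense T := by
    rw [hT.isNowhereDense_iff, ← Set.not_nonempty_iff_eq_empty]
    rintro ⟨x, hx⟩
    obtain ⟨x', hx', hfx'⟩ := Flat.generalizingMap f
      ((PrimeSpectrum.le_iff_specializes η (f x : PrimeSpectrum A)).1 bot_le)
    exact hη (hfx'.symm.trans (hTy x' (interior_subset (hx'.mem_open isOpen_interior hx))))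
  refine ConnCount.isConnected_compl (UnibranchFibre.hloc_of_isLocallyNoetherian X) T hT hn fun x hx => ?_
  let φ := f.stalkMap x
  let B : Type u := X.presheaf.stalk x
  let p : PrimeSpectrum A := f x
  have hp : p = closedPoint A := hTy x hx
  let σ : A →+* (Spec (CommRingCat.of A)).presheaf.stalk (f x) :=
    ((Scheme.ΓSpecIso (CommRingCat.of A)).inv ≫ (Spec (CommRingCat.of A)).presheaf.germ ⊤ (f x) trivial).hom
  have hσl : letI := σ.toAlgebra
      IsLocalization.AtPrime ((Spec (CommRingCat.of A)).presheaf.stalk (f x)) p.asIdeal :=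
    inferInstanceAs (IsLocalization.AtPrime ((Spec.structureSheaf A).presheaf.stalk p) p.asIdeal)
  letI : Algebra A B := (φ.hom.comp σ).toAlgebra
  haveI : IsLocalHom (algebraMap A B) := ⟨fun a ha => by
    letI := σ.toAlgebra
    haveI := hσl
    have h1 : IsUnit (σ a) := IsLocalHom.map_nonunit (f := φ.hom) _ ha
    have h2 := (IsLocalization.AtPrime.isUnit_to_map_iff _ p.asIdeal a).1 h1
    rw [hp] at h2
    by_contra h
    exact h2 h⟩
  haveI : Module.Flat A B := by
    have h1 : σ.Flat := by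
      letI := σ.toAlgebra
      haveI := hσl
      exact IsLocalization.flat _ p.asIdeal.primeCompl
    exact RingHom.flat_algebraMap_iff.1 (h1.comp (Flat.stalkMap f x))
  haveI : IsNoetherianRing B := inferInstanceAs (IsNoetherianRing (X.presheaf.stalk x))
  have hconn := isConnected_compl_closedFibre A B hA hdim
  have himg : ({x' : X | x' ⤳ x} \ {x} : Set X) = X.fromSpecStalk x '' ({closedPoint B} : Set (PrimeSpectrum B))ᶜ := by
    ext w
    constructor
    · rintro ⟨hw, hwx⟩
      obtain ⟨b, rfl⟩ := (X.range_fromSpecStalk (x := x)).ge hw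
      refine ⟨b, fun hb => hwx ?_, rfl⟩
      rw [Set.mem_singleton_iff.1 hb]
      exact Scheme.fromSpecStalk_closedPoint
    · rintro ⟨b, hb, rfl⟩
      refine ⟨(X.range_fromSpecStalk (x := x)).le ⟨b, rfl⟩, fun h => hb ?_⟩
      exact (X.fromSpecStalk x).isEmbedding.injective (Set.mem_singleton_iff.1 h |>.trans
        (Scheme.fromSpecStalk_closedPoint (X := X) (x := x)).symm)
  rw [himg]
  exact hconn.isPreconnected.image _ (X.fromSpecStalk x).continuous.continuousOn

end Groth.Agent.EGA43.ConnPunctured
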